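import Groth.Agent.EGA41Two.MonicVars
import Mathlib.LinearAlgebra.Matrix.Block
import Mathlib.LinearAlgebra.Matrix.NonsingularInverse
import Mathlib.Tactic.Ring
import Mathlib.Tactic.NoncommRing

/-! The trace form "top coefficient" on `A[T_1..T_r]/(f_i(T_i))`, `f_i` monic, is perfect and
invariant under translations. -/

universe u

open Polynomial

namespace Groth.FrobForm

variable {A : Type u} [CommRing A]

section AdjoinRoot

variable {S : Type u} [CommRing S] (g : S[X])

/-- The coefficient of `root ^ (d - 1)`. -/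
noncomputable def topCoeff (hg : g.Monic) : AdjoinRoot g →ₗ[S] S :=
  (Polynomial.lcoeff S (g.natDegree - 1)).comp (AdjoinRoot.modByMonicHom hg)

theorem topCoeff_mk (hg : g.Monic) {q : S[X]} (hq : q.degree < g.degree) :
    topCoeff g hg (AdjoinRoot.mk g q) = q.coeff (g.natDegree - 1) := by
  nontriviality S
  change (AdjoinRoot.modByMonicHom hg (AdjoinRoot.mk g q)).coeff _ = _
  rw [AdjoinRoot.modByMonicHom_mk, (Polynomial.modByMonic_eq_self_iff hg).mpr hq]

theorem topCoeff_root_pow (hg : g.Monic) (hd : 0 < g.natDegree) {m : ℕ} (hm : m < g.natDegree) :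
    topCoeff g hg (AdjoinRoot.root g ^ m) = if m = g.natDegree - 1 then 1 else 0 := by
  nontriviality S
  rw [← AdjoinRoot.mk_X, ← map_pow, topCoeff_mk g hg]
  · rw [Polynomial.coeff_X_pow]
    simp only [eq_comm]
  · rw [Polynomial.degree_X_pow, Polynomial.degree_eq_natDegree hg.ne_zero]
    exact_mod_cast hm

theorem topCoeff_perfect (hg : g.Monic) (hd : 0 < g.natDegree) :
    (∀ z, (∀ x, topCoeff g hg (x * z) = 0) → z = 0) ∧
      ∀ w : AdjoinRoot g →ₗ[S] S, ∃ z, ∀ x, w x = topCoeff g hg (x * z) := by
  classical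
  set d := g.natDegree with hdd
  let b := (AdjoinRoot.powerBasis' hg).basis
  have hb : ∀ j : Fin d, b j = AdjoinRoot.root g ^ (j : ℕ) := fun j =>
    ((AdjoinRoot.powerBasis' hg).basis_eq_pow j).trans rfl
  let M : Matrix (Fin d) (Fin d) S := fun j e =>
    topCoeff g hg (AdjoinRoot.root g ^ (j : ℕ) * AdjoinRoot.root g ^ (d - 1 - (e : ℕ)))
  have hlow : ∀ j e : Fin d, j < e → M j e = 0 := by
    intro j e h
    have h' : (j : ℕ) < (e : ℕ) := h
    have := e.2
    simp only [M]
    rw [← pow_add, topCoeff_root_pow g hg hd (by omega), if_neg (by omega)]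
  have hdiag : ∀ j : Fin d, M j j = 1 := by
    intro j
    have := j.2
    simp only [M]
    rw [← pow_add, topCoeff_root_pow g hg hd (by omega), if_pos (by omega)]
  have hdet : IsUnit M.det := by
    rw [Matrix.det_of_isLowerTriangular M (fun i j h => hlow i j h), Finset.prod_congr rfl
      (fun j _ => hdiag j), Finset.prod_const_one]
    exact isUnit_one
  have hMunit : IsUnit M := (Matrix.isUnit_iff_isUnit_det M).mpr hdet
  have hval : ∀ (c : Fin d → S) (j : Fin d),
      topCoeff g hg (b j * ∑ e : Fin d, c e • AdjoinRoot.root g ^ (d - 1 - (e : ℕ))) = M.mulVec c j := by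
    intro c j
    rw [Finset.mul_sum, map_sum]
    refine Finset.sum_congr rfl fun e _ => ?_
    rw [mul_smul_comm, map_smul, smul_eq_mul, hb, mul_comm]
  constructor
  · intro z hz
    let c : Fin d → S := fun e => b.repr z (Fin.rev e)
    have hzc : z = ∑ e : Fin d, c e • AdjoinRoot.root g ^ (d - 1 - (e : ℕ)) := by
      conv_lhs => rw [← b.sum_repr z, ← Equiv.sum_comp Fin.revPerm]
      refine Finset.sum_congr rfl fun e _ => ?_
      rw [Fin.revPerm_apply, hb]
      congr 2
      rw [Fin.val_rev]
      change d - ((e : ℕ) + 1) = _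
      omega
    have hc : M.mulVec c = M.mulVec 0 := by
      rw [Matrix.mulVec_zero]
      funext j
      rw [← hval c j, ← hzc]
      exact hz _
    have := (Matrix.mulVec_injective_of_isUnit hMunit) hc
    rw [hzc, this]
    simp
  · intro w
    obtain ⟨c, hc⟩ := (Matrix.mulVec_surjective_iff_isUnit.mpr hMunit) (fun j => w (b j))
    refine ⟨∑ e : Fin d, c e • AdjoinRoot.root g ^ (d - 1 - (e : ℕ)), fun x => ?_⟩
    have h : w = (topCoeff g hg).comp (LinearMap.mulRight S
        (∑ e : Fin d, c e • AdjoinRoot.root g ^ (d - 1 - (e : ℕ)))) :=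
      b.ext fun j => ((hval c j).trans (congrFun hc j)).symm
    exact LinearMap.congr_fun h x

theorem topCoeff_translate (hg : g.Monic) (hd : 0 < g.natDegree)
    (σ : AdjoinRoot g →+* AdjoinRoot g) (σS : S →+* S)
    (hof : ∀ s, σ (AdjoinRoot.of g s) = AdjoinRoot.of g (σS s)) (t : S)
    (hroot : σ (AdjoinRoot.root g) = AdjoinRoot.root g + AdjoinRoot.of g t)
    (z : AdjoinRoot g) : topCoeff g hg (σ z) = σS (topCoeff g hg z) := by
  nontriviality S
  obtain ⟨q, rfl⟩ := AdjoinRoot.mk_surjective z
  rw [show AdjoinRoot.mk g q = AdjoinRoot.mk g (q %ₘ g) from AdjoinRoot.mk_eq_mk.mpr (by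
    rw [Polynomial.modByMonic_eq_sub_mul_div, sub_sub_cancel]; exact dvd_mul_right _ _)]
  set r := q %ₘ g
  have hr : r.degree < g.degree := Polynomial.degree_modByMonic_lt q hg
  have h1 : σ (AdjoinRoot.mk g r) = AdjoinRoot.mk g ((r.map σS).comp (X + C t)) := by
    rw [← AdjoinRoot.aeval_eq, ← AdjoinRoot.aeval_eq, Polynomial.aeval_def, Polynomial.hom_eval₂,
      Polynomial.aeval_comp, Polynomial.aeval_def, Polynomial.eval₂_map, map_add, Polynomial.aeval_X,
      Polynomial.aeval_C, hroot]
    congr 1
    exact RingHom.ext fun s => hof s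
  have hnd : r.natDegree < g.natDegree := by
    by_cases h0 : r = 0
    · rw [h0, Polynomial.natDegree_zero]; exact hd
    · exact Polynomial.natDegree_lt_natDegree h0 hr
  have hnd' : ((r.map σS).comp (X + C t)).natDegree < g.natDegree := by
    refine lt_of_le_of_lt (Polynomial.natDegree_comp_le.trans ?_) hnd
    rw [Polynomial.natDegree_X_add_C, mul_one]
    exact Polynomial.natDegree_map_le
  rw [h1, topCoeff_mk g hg hr, topCoeff_mk g hg (Polynomial.degree_lt_degree hnd')]
  by_cases he : r.natDegree < g.natDegree - 1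
  · rw [Polynomial.coeff_eq_zero_of_natDegree_lt he, map_zero,
      Polynomial.coeff_eq_zero_of_natDegree_lt]
    refine lt_of_le_of_lt (Polynomial.natDegree_comp_le.trans ?_) he
    rw [Polynomial.natDegree_X_add_C, mul_one]
    exact Polynomial.natDegree_map_le
  · have he' : r.natDegree = g.natDegree - 1 := by omega
    rw [← Polynomial.coeff_map]
    have hle : (r.map σS).natDegree ≤ g.natDegree - 1 := Polynomial.natDegree_map_le.trans he'.le
    rcases hle.lt_or_eq with hlt | heq
    · rw [Polynomial.coeff_eq_zero_of_natDegree_lt hlt, Polynomial.coeff_eq_zero_of_natDegree_lt]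
      refine lt_of_le_of_lt (Polynomial.natDegree_comp_le.trans ?_) hlt
      rw [Polynomial.natDegree_X_add_C, mul_one]
    · have hc := Polynomial.coeff_comp_degree_mul_degree (p := r.map σS) (q := X + C t)
        (by rw [Polynomial.natDegree_X_add_C]; exact one_ne_zero)
      rw [Polynomial.natDegree_X_add_C, mul_one, heq, Polynomial.leadingCoeff_X_add_C, one_pow,
        mul_one] at hc
      rw [hc, Polynomial.leadingCoeff, heq]

end AdjoinRoot

/-- A perfect, translation invariant linear form on `A[T]/(f_i(T_i))`. -/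
theorem exists_form : ∀ {r : ℕ} (f : Fin r → A[X]), (∀ i, (f i).Monic) → (∀ i, 0 < (f i).natDegree) →
    ∃ τ : (MvPolynomial (Fin r) A ⧸ EGA41Two.MonicVars.finIdeal f) →ₗ[A] A,
      (∀ z, (∀ x, τ (x * z) = 0) → z = 0) ∧
      (∀ w : (MvPolynomial (Fin r) A ⧸ EGA41Two.MonicVars.finIdeal f) →ₗ[A] A,
        ∃ z, ∀ x, w x = τ (x * z)) ∧
      ∀ σ : (MvPolynomial (Fin r) A ⧸ EGA41Two.MonicVars.finIdeal f) →ₐ[A]
          (MvPolynomial (Fin r) A ⧸ EGA41Two.MonicVars.finIdeal f),
        (∀ i, ∃ a : A, σ (Ideal.Quotient.mk _ (MvPolynomial.X i)) =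
          Ideal.Quotient.mk _ (MvPolynomial.X i) + algebraMap A _ a) → ∀ z, τ (σ z) = τ z := by
  intro r
  induction r with
  | zero =>
    intro f _ _
    let e : (MvPolynomial (Fin 0) A ⧸ EGA41Two.MonicVars.finIdeal f) ≃ₐ[A] A :=
      AlgEquiv.ofAlgHom (EGA41Two.MonicVars.homMk f Fin.elim0 fun i => i.elim0) (Algebra.ofId A _)
        (AlgHom.ext fun a => (EGA41Two.MonicVars.homMk f Fin.elim0 fun i => i.elim0).commutes a)
        (Ideal.Quotient.algHom_ext A (MvPolynomial.algHom_ext fun i => i.elim0))
    refine ⟨e.toLinearMap, fun z hz => e.injective ?_, fun w => ⟨e.symm (w 1), fun x => ?_⟩,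
      fun σ _ z => ?_⟩
    · have := hz 1
      rw [one_mul] at this
      exact this.trans (map_zero e).symm
    · change w x = e (x * e.symm (w 1))
      rw [map_mul, e.apply_symm_apply]
      conv_lhs => rw [← e.symm_apply_apply x, show e.symm (e x) = e x • (1 : _) from
        ((e.symm.commutes (e x)).trans (Algebra.algebraMap_eq_smul_one _)), map_smul, smul_eq_mul]
    · obtain ⟨a, rfl⟩ := e.symm.surjective z
      change e (σ (algebraMap A _ a)) = e (algebraMap A _ a)
      rw [σ.commutes]
  | succ r ih =>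
    intro f hf hd
    obtain ⟨τ₀, hinj, hsurj, hinv⟩ := ih (fun i => f i.succ) (fun i => hf _) (fun i => hd _)
    let S := MvPolynomial (Fin r) A ⧸ EGA41Two.MonicVars.finIdeal (fun i => f i.succ)
    let g := (f 0).map (algebraMap A S)
    have hg : g.Monic := (hf 0).map _
    let e := EGA41Two.MonicVars.consEquiv f
    rcases subsingleton_or_nontrivial S with hS | hS
    · haveI : Subsingleton (AdjoinRoot g) := (AdjoinRoot.of g).codomain_trivial
      haveI : Subsingleton (MvPolynomial (Fin (r + 1)) A ⧸ EGA41Two.MonicVars.finIdeal f) :=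
        e.toEquiv.subsingleton
      exact ⟨0, fun z _ => Subsingleton.elim _ _, fun w => ⟨0, fun x => by
        rw [Subsingleton.elim x 0, map_zero]; rfl⟩, fun _ _ _ => rfl⟩
    have hgd : g.natDegree = (f 0).natDegree := (hf 0).natDegree_map _
    have hgd0 : 0 < g.natDegree := hgd ▸ hd 0
    obtain ⟨tinj, tsurj⟩ := topCoeff_perfect g hg hgd0
    let τ : AdjoinRoot g →ₗ[A] A := τ₀.comp ((topCoeff g hg).restrictScalars A)
    refine ⟨τ.comp e.toLinearMap, fun z hz => e.injective ?_, fun w => ?_, fun σ hσ z => ?_⟩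
    · refine (tinj (e z) fun x => hinj _ fun s => ?_).trans (map_zero e).symm
      have h := hz (e.symm (s • x))
      change τ₀ (topCoeff g hg (e (e.symm (s • x) * z))) = 0 at h
      rwa [map_mul, e.apply_symm_apply, smul_mul_assoc, map_smul, smul_eq_mul] at h
    · let w' : AdjoinRoot g →ₗ[A] A := w.comp e.symm.toLinearMap
      have hex : ∀ x : AdjoinRoot g, ∃ c : S, ∀ s : S, w' (s • x) = τ₀ (s * c) := fun x =>
        hsurj { toFun := fun s => w' (s • x)
                map_add' := fun s t => (congrArg w' (add_smul (R := S) s t x)).trans (map_add w' _ _)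
                map_smul' := fun a s => by rw [smul_assoc, map_smul]; rfl }
      choose c hc using hex
      have huniq : ∀ u v : S, (∀ s, τ₀ (s * u) = τ₀ (s * v)) → u = v := fun u v h =>
        sub_eq_zero.mp (hinj _ fun s => by rw [mul_sub, map_sub, h s, sub_self])
      let W : AdjoinRoot g →ₗ[S] S :=
        { toFun := c
          map_add' := fun x y => huniq _ _ fun s => by
            rw [mul_add, map_add, ← hc, ← hc, ← hc, smul_add, map_add]
          map_smul' := fun t x => huniq _ _ fun s => by
            rw [RingHom.id_apply, smul_eq_mul, ← mul_assoc, ← hc, ← hc, smul_smul] }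
      obtain ⟨z, hz⟩ := tsurj W
      refine ⟨e.symm z, fun x => ?_⟩
      change w x = τ₀ (topCoeff g hg (e (x * e.symm z)))
      rw [map_mul, e.apply_symm_apply, ← hz, ← one_mul (W (e x))]
      change w x = τ₀ (1 * c (e x))
      rw [← hc, one_smul]
      change w x = w (e.symm (e x))
      rw [e.symm_apply_apply]
    · let σ' : AdjoinRoot g →ₐ[A] AdjoinRoot g := e.toAlgHom.comp (σ.comp e.symm.toAlgHom)
      choose a ha using hσ
      have heX : ∀ i, e (Ideal.Quotient.mk _ (MvPolynomial.X i)) =
          (Fin.cases (AdjoinRoot.root g) (fun j => AdjoinRoot.of g (Ideal.Quotient.mk _ (MvPolynomial.X j))) i :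
            AdjoinRoot g) := fun i => by
        simp only [e, EGA41Two.MonicVars.consEquiv]
        exact MvPolynomial.aeval_X _ i
      have hrootσ : σ' (AdjoinRoot.root g) = AdjoinRoot.root g + AdjoinRoot.of g (algebraMap A S (a 0)) := by
        have h0 : e.symm (AdjoinRoot.root g) = Ideal.Quotient.mk _ (MvPolynomial.X 0) := by
          rw [AlgEquiv.symm_apply_eq, heX]; rfl
        change e (σ (e.symm (AdjoinRoot.root g))) = _
        rw [h0, ha, map_add, heX, AlgEquiv.commutes]
        rfl
      have hofX : ∀ j, σ' (AdjoinRoot.of g (Ideal.Quotient.mk _ (MvPolynomial.X j))) =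
          AdjoinRoot.of g (Ideal.Quotient.mk _ (MvPolynomial.X j) + algebraMap A S (a j.succ)) := by
        intro j
        have h0 : e.symm (AdjoinRoot.of g (Ideal.Quotient.mk _ (MvPolynomial.X j))) =
            Ideal.Quotient.mk _ (MvPolynomial.X j.succ) := by
          rw [AlgEquiv.symm_apply_eq, heX]; rfl
        change e (σ (e.symm _)) = _
        rw [h0, ha, map_add, heX, AlgEquiv.commutes, map_add]
        rfl
      have hofinj : Function.Injective (AdjoinRoot.of g) := by
        refine (injective_iff_map_eq_zero _).mpr fun s hs => ?_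
        rw [← AdjoinRoot.mk_C, AdjoinRoot.mk_eq_zero] at hs
        by_contra hne
        have h1 := Polynomial.Monic.not_dvd_of_natDegree_lt hg (Polynomial.C_ne_zero.mpr hne)
          (by rw [Polynomial.natDegree_C]; exact hgd0)
        exact h1 hs
      let σS : S →ₐ[A] S := EGA41Two.MonicVars.homMk _
        (fun j => Ideal.Quotient.mk _ (MvPolynomial.X j) + algebraMap A S (a j.succ)) (fun j => by
          refine hofinj ?_
          change AdjoinRoot.ofAlgHom A g (Polynomial.aeval _ (f j.succ)) = AdjoinRoot.of g 0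
          rw [← Polynomial.aeval_algHom_apply, map_zero]
          change Polynomial.aeval (AdjoinRoot.of g _) (f j.succ) = 0
          rw [← hofX, Polynomial.aeval_algHom_apply,
            show AdjoinRoot.of g (Ideal.Quotient.mk _ (MvPolynomial.X j)) =
              AdjoinRoot.ofAlgHom A g (Ideal.Quotient.mk _ (MvPolynomial.X j)) from rfl,
            Polynomial.aeval_algHom_apply, EGA41Two.MonicVars.aeval_eq_zero (fun i => f i.succ) j,
            map_zero, map_zero])
      have hof : σ'.comp (AdjoinRoot.ofAlgHom A g) = (AdjoinRoot.ofAlgHom A g).comp σS := by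
        refine Ideal.Quotient.algHom_ext A (MvPolynomial.algHom_ext fun j => ?_)
        change σ' (AdjoinRoot.of g _) = AdjoinRoot.of g (σS (Ideal.Quotient.mk _ (MvPolynomial.X j)))
        refine (hofX j).trans (congrArg (AdjoinRoot.of g) ?_)
        symm
        change MvPolynomial.aeval (fun j => Ideal.Quotient.mk _ (MvPolynomial.X j) + algebraMap A S (a j.succ))
          (MvPolynomial.X j) = _
        exact MvPolynomial.aeval_X _ j
      have h2 : σ' (e z) = e (σ z) := by
        change e (σ (e.symm (e z))) = _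
        rw [e.symm_apply_apply]
      change τ₀ (topCoeff g hg (e (σ z))) = τ₀ (topCoeff g hg (e z))
      rw [← h2]
      have h3 := topCoeff_translate g hg hgd0 σ'.toRingHom σS.toRingHom
        (fun s => AlgHom.congr_fun hof s) (algebraMap A S (a 0)) hrootσ (e z)
      refine (congrArg τ₀ h3).trans ?_
      exact hinv σS (fun j => ⟨a j.succ, MvPolynomial.aeval_X _ j⟩) _

end Groth.FrobForm
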